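import Cfsg.Agent.Lib.PSL11.Pairs
import Mathlib

/-!
The subgroups isomorphic to the alternating group of degree 5 in `PSL(2, 11)`.
-/

set_option autoImplicit false

namespace Cfsg.Agent.Lib.PSL11

open Equiv Cfsg.Agent.Lib.AutPSL Cfsg.Agent.Lib.DicksonFull
open scoped Pointwise

local notation "K" => ZMod 11
local notation "SL2" => Matrix.SpecialLinearGroup (Fin 2) (ZMod 11)
local notation "M2" => Matrix (Fin 2) (Fin 2) (ZMod 11)
local notation "PSL2" => Matrix.ProjectiveSpecialLinearGroup (Fin 2) (ZMod 11)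
local notation "A5" => alternatingGroup (Fin 5)

/-- A double transposition. -/
def a0 : A5 := ⟨swap 0 1 * swap 2 3, Perm.mem_alternatingGroup.2 (by decide +kernel)⟩

/-- A three-cycle. -/
def b0 : A5 := ⟨swap 1 2 * swap 2 4, Perm.mem_alternatingGroup.2 (by decide +kernel)⟩

/-- The outer automorphism. -/
def theta : MulAut A5 := MulAut.conjNormal (swap (0 : Fin 5) 1)

theorem orders : a0 ^ 2 = 1 ∧ a0 ≠ 1 ∧ b0 ^ 3 = 1 ∧ b0 ≠ 1 ∧ (a0 * b0) ^ 5 = 1 ∧ a0 * b0 ≠ 1 := by
  decide +kernel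

theorem theta_prod : ∃ c : A5, theta (a0 * b0) = c * (a0 * b0) ^ 2 * c⁻¹ := by
  decide +kernel

theorem five_classes : ∀ y : A5, y ^ 5 = 1 → y ≠ 1 →
    ∃ c : A5, y = c * (a0 * b0) * c⁻¹ ∨ y = c * (a0 * b0) ^ 2 * c⁻¹ := by
  decide +kernel

theorem pairs_conj : ∀ a b : A5, a * a = 1 → a ≠ 1 → b * b * b = 1 → b ≠ 1 →
    (∃ c : A5, a * b = c * (a0 * b0) * c⁻¹) → ∃ c : A5, a = c * a0 * c⁻¹ ∧ b = c * b0 * c⁻¹ := by
  decide +kernel

theorem card_A5 : Nat.card A5 = 60 := by
  rw [nat_card_alternatingGroup, Nat.card_fin]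
  rfl

theorem closure_eq_top : Subgroup.closure {a0, b0} = (⊤ : Subgroup A5) := by
  set S := Subgroup.closure ({a0, b0} : Set A5)
  have ha : a0 ∈ S := Subgroup.subset_closure (by simp)
  have hb : b0 ∈ S := Subgroup.subset_closure (by simp)
  obtain ⟨h1, h2, h3, h4, h5, h6⟩ := orders
  have hd : ∀ (g : A5) (p : ℕ), p.Prime → g ∈ S → g ^ p = 1 → g ≠ 1 → p ∣ Nat.card S := by
    intro g p hp hg hgp hg1
    haveI : Fact p.Prime := ⟨hp⟩
    rw [← orderOf_eq_prime hgp hg1]
    exact Subgroup.orderOf_dvd_natCard S hg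
  have h30 : 30 ∣ Nat.card S := by
    have e2 := hd a0 2 Nat.prime_two ha h1 h2
    have e3 := hd b0 3 Nat.prime_three hb h3 h4
    have e5 := hd _ 5 (by norm_num) (mul_mem ha hb) h5 h6
    omega
  have hmul := S.card_mul_index
  rw [card_A5] at hmul
  have hi : S.index ≤ 2 := by
    obtain ⟨k, hk⟩ := h30
    rw [hk] at hmul
    have e : k * S.index = 2 := by nlinarith
    exact Nat.le_of_dvd two_pos (Dvd.intro_left k e)
  rcases (show S.index = 1 ∨ S.index = 2 by have := (Subgroup.index_ne_zero_of_finite : S.index ≠ 0); omega) with e | e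
  · exact Subgroup.index_eq_one.1 e
  · haveI : S.Normal := Subgroup.normal_of_index_eq_two e
    haveI := alternatingGroup.isSimpleGroup_five
    rcases IsSimpleGroup.eq_bot_or_eq_top_of_normal S inferInstance with h | h
    · rw [h, Subgroup.index_bot, card_A5] at e
      omega
    · exact h

theorem range_eq_closure {G : Type*} [Group G] (ψ : A5 →* G) : ψ.range = Subgroup.closure {ψ a0, ψ b0} := by
  rw [MonoidHom.range_eq_map, ← closure_eq_top, MonoidHom.map_closure, Set.image_pair]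

theorem map_H0 (g : GL (Fin 2) K) :
    H0.map (conjAut g).toMonoidHom = Subgroup.closure {conjAut g w0, conjAut g x0} := by
  rw [H0, MonoidHom.map_closure, Set.image_pair]
  rfl

/-- An element of order 5 is conjugate to its square inverse only up to trace. -/
theorem trace_sq (Z : SL2) : Matrix.trace ((Z ^ 2 : SL2) : M2) = Matrix.trace (Z : M2) ^ 2 - 2 := by
  rw [Matrix.SpecialLinearGroup.coe_pow, pow_two, Cfsg.Agent.Lib.Linear.sl2_mul_self, Matrix.trace_sub,
    Matrix.trace_smul, Matrix.trace_one, smul_eq_mul, pow_two]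
  simp

theorem trace_conj (C Z : SL2) : Matrix.trace ((C * Z * C⁻¹ : SL2) : M2) = Matrix.trace (Z : M2) := by
  rw [trace_comm, ← mul_assoc, inv_mul_cancel, one_mul]

theorem std_of_trace (φ : A5 →* PSL2) (hφ : Function.Injective φ) {W X : SL2} (hW : (W : PSL2) = φ a0)
    (hX : (X : PSL2) = φ b0) (tX : Matrix.trace (X : M2) = 1)
    (tZ : Matrix.trace ((W * X : SL2) : M2) = 8 ∨ Matrix.trace ((W * X : SL2) : M2) = -8) :
    ∃ g : GL (Fin 2) K, φ a0 = conjAut g w0 ∧ φ b0 = conjAut g x0 := by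
  have hne : ∀ a : A5, a ≠ 1 → φ a ≠ 1 := fun a ha h => ha (hφ (h.trans (map_one φ).symm))
  have tW : Matrix.trace (W : M2) = 0 :=
    trace_two (by rw [hW]; exact hne _ orders.2.1) (by rw [hW, ← map_pow, orders.1, map_one])
  have hneg : ((-W : SL2) : PSL2) = φ a0 := by
    rw [← hW]
    refine (mk_eq_mk_iff _ _).2 ⟨-1, ?_⟩
    rw [Matrix.SpecialLinearGroup.coe_neg]
    simp
  obtain ⟨W', hW', tW', tWX⟩ : ∃ W' : SL2, (W' : PSL2) = φ a0 ∧ Matrix.trace (W' : M2) = 0 ∧
      Matrix.trace ((W' * X : SL2) : M2) = 8 := by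
    rcases tZ with h | h
    · exact ⟨W, hW, tW, h⟩
    · refine ⟨-W, hneg, ?_, ?_⟩
      · rw [Matrix.SpecialLinearGroup.coe_neg, Matrix.trace_neg, tW, neg_zero]
      · rw [Matrix.SpecialLinearGroup.coe_mul, Matrix.SpecialLinearGroup.coe_neg, Matrix.neg_mul, Matrix.trace_neg,
          ← Matrix.SpecialLinearGroup.coe_mul, h, neg_neg]
  obtain ⟨g, h1, h2⟩ := pair_std tW' tX tWX
  refine ⟨g, ?_, ?_⟩
  · rw [w0, conjAut_mk, h1, hW']
  · rw [x0, conjAut_mk, h2, hX]

/-- Every embedding is standard after the outer automorphism, possibly, and a projective linear conjugation. -/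
theorem normal_form (φ : A5 →* PSL2) (hφ : Function.Injective φ) :
    ∃ (ψ : A5 →* PSL2) (g : GL (Fin 2) K), Function.Injective ψ ∧ ψ.range = φ.range ∧
      ψ a0 = conjAut g w0 ∧ ψ b0 = conjAut g x0 := by
  obtain ⟨h1, h2, h3, h4, h5, h6⟩ := orders
  have liftX : ∀ ψ : A5 →* PSL2, Function.Injective ψ → ∃ X : SL2, (X : PSL2) = ψ b0 ∧ Matrix.trace (X : M2) = 1 :=
    fun ψ hψ => exists_lift (ψ b0) 1 fun x hx => trace_three
      (by rw [hx]; exact fun h => h4 (hψ (h.trans (map_one ψ).symm))) (by rw [hx, ← map_pow, h3, map_one])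
  have liftW : ∀ ψ : A5 →* PSL2, ∃ W : SL2, (W : PSL2) = ψ a0 := fun ψ => QuotientGroup.mk_surjective (ψ a0)
  obtain ⟨W, hW⟩ := liftW φ
  obtain ⟨X, hX, tX⟩ := liftX φ hφ
  have hZ : ((W * X : SL2) : PSL2) = φ (a0 * b0) := by rw [QuotientGroup.mk_mul, hW, hX, map_mul]
  rcases trace_five (x := W * X) (by rw [hZ]; exact fun h => h6 (hφ (h.trans (map_one φ).symm)))
      (by rw [hZ, ← map_pow, h5, map_one]) with hz | hz | hz | hz
  rotate_left 2
  · obtain ⟨g, hg⟩ := std_of_trace φ hφ hW hX tX (Or.inl hz)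
    exact ⟨φ, g, hφ, rfl, hg⟩
  · obtain ⟨g, hg⟩ := std_of_trace φ hφ hW hX tX (Or.inr hz)
    exact ⟨φ, g, hφ, rfl, hg⟩
  all_goals
    set ψ : A5 →* PSL2 := φ.comp theta.toMonoidHom with hψ
    have hinj : Function.Injective ψ := hφ.comp theta.injective
    obtain ⟨W', hW'⟩ := liftW ψ
    obtain ⟨X', hX', tX'⟩ := liftX ψ hinj
    obtain ⟨c, hc⟩ := theta_prod
    obtain ⟨C, hC⟩ := QuotientGroup.mk_surjective (φ c)
    have e : ((C * (W * X) ^ 2 * C⁻¹ : SL2) : PSL2) = ((W' * X' : SL2) : PSL2) := by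
      rw [QuotientGroup.mk_mul, QuotientGroup.mk_mul, QuotientGroup.mk_inv, QuotientGroup.mk_pow, hZ, hC,
        QuotientGroup.mk_mul, hW', hX', ← map_mul ψ, hψ, MonoidHom.comp_apply, MulEquiv.coe_toMonoidHom, hc]
      simp only [map_mul, map_pow, map_inv]
    have t := trace_sign e
    rw [trace_conj, trace_sq, hz] at t
    have t8 : Matrix.trace ((W' * X' : SL2) : M2) = 8 ∨ Matrix.trace ((W' * X' : SL2) : M2) = -8 := by
      rcases t with t | t <;> rw [t] <;> decide +kernel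
    obtain ⟨g, hg⟩ := std_of_trace ψ hinj hW' hX' tX' t8
    refine ⟨ψ, g, hinj, ?_, hg⟩
    rw [hψ, MonoidHom.range_comp,
      show theta.toMonoidHom.range = ⊤ from MonoidHom.range_eq_top.2 theta.surjective, ← MonoidHom.range_eq_map]

/-- The conjugate of the standard subgroup by a matrix. -/
def icosa (g : GL (Fin 2) K) : Subgroup PSL2 := H0.map (conjAut g).toMonoidHom

theorem icosa_mul (g h : GL (Fin 2) K) : icosa (g * h) = (icosa h).map (conjAut g).toMonoidHom := by
  rw [icosa, icosa, Subgroup.map_map, map_mul]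
  rfl

theorem icosa_one : icosa 1 = H0 := by
  rw [icosa, map_one]
  exact Subgroup.map_id _

theorem eq_icosa {L : Subgroup PSL2} (hL : Nonempty (L ≃* A5)) : ∃ g : GL (Fin 2) K, L = icosa g := by
  obtain ⟨e⟩ := hL
  have hφ : Function.Injective (L.subtype.comp e.symm.toMonoidHom) := L.subtype_injective.comp e.symm.injective
  obtain ⟨ψ, g, -, hr, h1, h2⟩ := normal_form _ hφ
  refine ⟨g, ?_⟩
  rw [icosa, map_H0, ← h1, ← h2, ← range_eq_closure, hr, MonoidHom.range_comp,
    MonoidHom.range_eq_top.2 e.symm.surjective, ← MonoidHom.range_eq_map, Subgroup.range_subtype]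

theorem exists_standard : ∃ ψ : A5 →* PSL2, Function.Injective ψ ∧ ψ.range = H0 ∧ ψ a0 = w0 ∧ ψ b0 = x0 := by
  obtain ⟨φ, hφ⟩ := exists_alt_five (F := K) (by decide) (r := 4) (by decide +kernel)
  obtain ⟨ψ, g, hψ, -, h1, h2⟩ := normal_form φ hφ
  refine ⟨(conjAut g)⁻¹.toMonoidHom.comp ψ, (conjAut g)⁻¹.injective.comp hψ, ?_, ?_, ?_⟩
  · rw [range_eq_closure, H0]
    simp [h1, h2]
  · simp [h1]
  · simp [h2]

theorem iso_icosa (g : GL (Fin 2) K) : Nonempty (icosa g ≃* A5) := by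
  obtain ⟨ψ, hψ, hr, -, -⟩ := exists_standard
  exact ⟨((H0.equivMapOfInjective (conjAut g).toMonoidHom (conjAut g).injective).symm.trans
    (MulEquiv.subgroupCongr hr.symm)).trans (MonoidHom.ofInjective hψ).symm⟩

/-- A matrix of square determinant acts as an inner automorphism. -/
theorem inner_of_square {g : GL (Fin 2) K} {r : K} (h : (g : M2).det = r * r) :
    ∃ s : SL2, conjAut g = MulAut.conj (s : PSL2) := by
  have hr : r ≠ 0 := fun h0 => by
    rw [h0, mul_zero] at h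
    exact (Matrix.isUnits_det_units g).ne_zero h
  let s : SL2 := ⟨r⁻¹ • (g : M2), by rw [Matrix.det_smul, Fintype.card_fin, h]; field_simp⟩
  refine ⟨s, MulEquiv.ext fun y => ?_⟩
  obtain ⟨t, rfl⟩ := QuotientGroup.mk_surjective y
  rw [← conjAut_toGL, conjAut_mk, conjAut_mk]
  refine (mk_eq_mk_iff _ _).2 ⟨1, ?_⟩
  rw [coe_conjSL, coe_conjSL, one_smul]
  have e : ((g⁻¹ : GL (Fin 2) K) : M2) = r⁻¹ • (((Matrix.SpecialLinearGroup.toGL s)⁻¹ : GL (Fin 2) K) : M2) := by
    refine (left_inv_eq_right_inv (a := (g : M2)) (by rw [← Units.val_mul, inv_mul_cancel, Units.val_one]) ?_)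
    rw [Matrix.mul_smul, ← Matrix.smul_mul, show r⁻¹ • (g : M2) = (Matrix.SpecialLinearGroup.toGL s : M2) from rfl,
      ← Units.val_mul, mul_inv_cancel, Units.val_one]
  rw [e, show (Matrix.SpecialLinearGroup.toGL s : M2) = r⁻¹ • (g : M2) from rfl]
  simp

/-- Normalising matrices have square determinant. -/
theorem det_square_of_normalizes {d : GL (Fin 2) K} (h : icosa d = H0) : ∃ r : K, (d : M2).det = r * r := by
  obtain ⟨ψ, hψ, hr, ha, hb⟩ := exists_standard
  have hmem : ∀ y ∈ H0, conjAut d y ∈ ψ.range := fun y hy => by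
    rw [hr, ← h]
    exact Subgroup.mem_map_of_mem _ hy
  obtain ⟨a, ha'⟩ := hmem w0 (Subgroup.subset_closure (by simp))
  obtain ⟨b, hb'⟩ := hmem x0 (Subgroup.subset_closure (by simp))
  obtain ⟨h1, h2, h3, h4, h5, h6⟩ := orders
  have hinj : Function.Injective ((conjAut d).toMonoidHom.comp ψ) := (conjAut d).injective.comp hψ
  have a1 : a * a = 1 := hψ (by
    rw [map_mul, ha', ← map_mul (conjAut d), ← ha, ← map_mul, ← pow_two, h1, map_one, map_one])
  have a2 : a ≠ 1 := fun e => h2 (hinj (by simp [ha, ← ha', e]))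
  have b1 : b * b * b = 1 := hψ (by
    rw [map_mul, map_mul, hb', ← map_mul (conjAut d), ← map_mul (conjAut d), ← hb, ← map_mul, ← map_mul,
      show b0 * b0 * b0 = 1 by rw [← h3, pow_succ, pow_two], map_one, map_one])
  have b2 : b ≠ 1 := fun e => h4 (hinj (by simp [hb, ← hb', e]))
  have hab : ψ (a * b) = conjAut d ((W0 * X0 : SL2) : PSL2) := by
    rw [map_mul, ha', hb', ← map_mul, QuotientGroup.mk_mul]
    rfl
  have ab5 : (a * b) ^ 5 = 1 := hψ (by
    rw [map_pow, map_one, hab, ← map_pow, QuotientGroup.mk_mul, ← w0, ← x0, ← ha, ← hb, ← map_mul, ← map_pow, h5,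
      map_one, map_one])
  have ab1 : a * b ≠ 1 := fun e => h6 (hinj (by
    have := congrArg ψ e
    rw [hab, map_one, QuotientGroup.mk_mul, ← w0, ← x0, ← ha, ← hb, ← map_mul] at this
    simpa using this))
  obtain ⟨c, hc | hc⟩ := five_classes (a * b) ab5 ab1
  swap
  · exfalso
    obtain ⟨C, hC⟩ := QuotientGroup.mk_surjective (ψ c)
    have e : ((C * (W0 * X0) ^ 2 * C⁻¹ : SL2) : PSL2) = ((conjSL d (W0 * X0) : SL2) : PSL2) := by
      rw [← conjAut_mk, ← hab, hc, QuotientGroup.mk_mul, QuotientGroup.mk_mul, QuotientGroup.mk_inv,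
        QuotientGroup.mk_pow, hC, QuotientGroup.mk_mul, ← w0, ← x0, ← ha, ← hb, map_mul, map_mul, map_inv, map_pow,
        map_mul]
    have t := trace_sign e
    rw [trace_conjSL, trace_conj, trace_sq] at t
    revert t
    decide +kernel
  obtain ⟨c', hca, hcb⟩ := pairs_conj a b a1 a2 b1 b2 ⟨c, hc⟩
  obtain ⟨S, hS⟩ := QuotientGroup.mk_surjective (ψ c')
  set γ : GL (Fin 2) K := (Matrix.SpecialLinearGroup.toGL S)⁻¹ * d with hγ
  have key : ∀ (u : A5) (y : PSL2), ψ (c' * u * c'⁻¹) = conjAut d y → conjAut γ y = ψ u := by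
    intro u y huy
    rw [hγ, map_mul, MulAut.mul_apply, ← huy, map_inv, conjAut_toGL, hS, MulAut.inv_def, MulEquiv.symm_apply_eq]
    simp [MulAut.conj_apply]
  have hw : conjAut γ w0 = w0 := by
    rw [key a0 w0 (by rw [← hca, ha']), ha]
  have hx : conjAut γ x0 = x0 := by
    rw [key b0 x0 (by rw [← hcb, hb']), hb]
  obtain ⟨r, hr'⟩ := det_square_of_fix hw hx
  refine ⟨r, ?_⟩
  have e : d = Matrix.SpecialLinearGroup.toGL S * γ := by rw [hγ, mul_inv_cancel_left]
  rw [e, Units.val_mul, Matrix.det_mul, hr', show (Matrix.SpecialLinearGroup.toGL S : M2) = (S : M2) from rfl,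
    S.det_coe, one_mul]

/-- The diagonal matrix of nonsquare determinant. -/
def dd : GL (Fin 2) K := Matrix.GeneralLinearGroup.mkOfDetNeZero !![2, 0; 0, 1] (by decide +kernel)

theorem not_conj (y : PSL2) : MulAut.conj y • H0 ≠ icosa dd := by
  intro h
  obtain ⟨S, rfl⟩ := QuotientGroup.mk_surjective y
  have e : icosa ((Matrix.SpecialLinearGroup.toGL S)⁻¹ * dd) = H0 := by
    rw [icosa_mul, ← h, map_inv, conjAut_toGL]
    show Subgroup.map _ (Subgroup.map (MulAut.conj (S : PSL2)).toMonoidHom H0) = H0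
    rw [Subgroup.map_map]
    convert Subgroup.map_id H0 using 2
    ext x
    simp
  obtain ⟨r, hr⟩ := det_square_of_normalizes e
  rw [Units.val_mul, Matrix.det_mul, ← Matrix.SpecialLinearGroup.toGL.map_inv,
    show (Matrix.SpecialLinearGroup.toGL S⁻¹ : M2) = ((S⁻¹ : SL2) : M2) from rfl, S⁻¹.det_coe, one_mul] at hr
  have key : ∀ r : K, (!![2, 0; 0, 1] : M2).det ≠ r * r := by decide +kernel
  exact key r hr

theorem two_classes {L : Subgroup PSL2} (hL : Nonempty (L ≃* A5)) :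
    ∃ y : PSL2, MulAut.conj y • H0 = L ∨ MulAut.conj y • icosa dd = L := by
  obtain ⟨g, rfl⟩ := eq_icosa hL
  have key : ∀ x : K, x ≠ 0 → ∃ r : K, x = r * r ∨ x = 2 * (r * r) := by decide +kernel
  obtain ⟨r, hr | hr⟩ := key _ (Matrix.isUnits_det_units g).ne_zero
  · obtain ⟨s, hs⟩ := inner_of_square hr
    refine ⟨s, Or.inl ?_⟩
    rw [icosa, hs]
    rfl
  · have hd : ((g * dd⁻¹ : GL (Fin 2) K) : M2).det = r * r := by
      have h1 : ((g * dd⁻¹ : GL (Fin 2) K) : M2).det * (dd : M2).det = (g : M2).det := by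
        rw [← Matrix.det_mul, ← Units.val_mul, inv_mul_cancel_right]
      have h2 : (dd : M2).det = 2 := by decide +kernel
      rw [h2, hr, mul_comm] at h1
      exact mul_left_cancel₀ (show (2 : K) ≠ 0 by decide) h1
    obtain ⟨s, hs⟩ := inner_of_square hd
    refine ⟨s, Or.inr ?_⟩
    conv_rhs => rw [← inv_mul_cancel_right g dd, icosa_mul, hs]
    rfl

end Cfsg.Agent.Lib.PSL11
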