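import Cfsg.Agent.Lib.DicksonFull.Exist
import Cfsg.Agent.Lib.AutPSL.Basic
import Mathlib

/-!
Generating pairs of icosahedral subgroups of `PSL(2, 11)`, up to projective general linear conjugation.
-/

set_option autoImplicit false

namespace Cfsg.Agent.Lib.PSL11

open Matrix Cfsg.Agent.Lib.Linear Cfsg.Agent.Lib.DicksonFull Cfsg.Agent.Lib.AutPSL

instance fact_prime_eleven : Fact (Nat.Prime 11) := ⟨by norm_num⟩

local notation "K" => ZMod 11
local notation "SL2" => Matrix.SpecialLinearGroup (Fin 2) (ZMod 11)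
local notation "M2" => Matrix (Fin 2) (Fin 2) (ZMod 11)
local notation "PSL2" => Matrix.ProjectiveSpecialLinearGroup (Fin 2) (ZMod 11)

/-- An element of trace 0. -/
def W0 : SL2 := mk2 0 6 9 0 (by decide)

/-- An element of trace 1. -/
def X0 : SL2 := mk2 0 (-1) 1 1 (by decide)

/-- The image of `W0`. -/
def w0 : PSL2 := (W0 : SL2)

/-- The image of `X0`. -/
def x0 : PSL2 := (X0 : SL2)

/-- The subgroup they generate. -/
def H0 : Subgroup PSL2 := Subgroup.closure {w0, x0}

theorem smul_zero_or_central {x : SL2} (hx : (x : PSL2) ≠ 1) {f g : K} (h : f • (x : M2) = g • 1) : f = 0 := by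
  by_contra hf
  refine hx (mk_eq_one_of_smul (a := f⁻¹ * g) ?_)
  rw [mul_smul, ← h, inv_smul_smul₀ hf]

theorem exists_scalar {x : SL2} (h : (x : PSL2) = 1) : ∃ a : K, (x : M2) = a • 1 :=
  (mem_center_iff_smul x).1 ((QuotientGroup.eq_one_iff x).1 h)

theorem trace_two {x : SL2} (hx : (x : PSL2) ≠ 1) (h : (x : PSL2) ^ 2 = 1) : Matrix.trace (x : M2) = 0 := by
  rw [← QuotientGroup.mk_pow] at h
  obtain ⟨a, ha⟩ := exists_scalar h
  rw [Matrix.SpecialLinearGroup.coe_pow, pow_two, sl2_mul_self] at ha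
  refine smul_zero_or_central hx (g := a + 1) ?_
  rw [add_smul, one_smul, ← ha, sub_add_cancel]

theorem trace_three {x : SL2} (hx : (x : PSL2) ≠ 1) (h : (x : PSL2) ^ 3 = 1) :
    Matrix.trace (x : M2) = 1 ∨ Matrix.trace (x : M2) = -1 := by
  rw [← QuotientGroup.mk_pow] at h
  obtain ⟨a, ha⟩ := exists_scalar h
  rw [Matrix.SpecialLinearGroup.coe_pow, pow_three_val] at ha
  have := smul_zero_or_central hx (f := Matrix.trace (x : M2) ^ 2 - 1) (g := a + Matrix.trace (x : M2)) (by
    rw [add_smul, ← ha, sub_add_cancel])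
  have key : ∀ t : K, t ^ 2 - 1 = 0 → t = 1 ∨ t = -1 := by decide +kernel
  exact key _ this

theorem trace_five {x : SL2} (hx : (x : PSL2) ≠ 1) (h : (x : PSL2) ^ 5 = 1) :
    Matrix.trace (x : M2) = 4 ∨ Matrix.trace (x : M2) = -4 ∨ Matrix.trace (x : M2) = 8 ∨ Matrix.trace (x : M2) = -8 := by
  rw [← QuotientGroup.mk_pow] at h
  obtain ⟨a, ha⟩ := exists_scalar h
  set t := Matrix.trace (x : M2) with ht
  have e5 : (x : M2) ^ 5 = (t ^ 4 - 3 * t ^ 2 + 1) • (x : M2) - (t ^ 3 - 2 * t) • 1 := by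
    rw [pow_succ, pow_succ, pow_three_val, ← ht]
    simp only [Matrix.sub_mul, smul_mul_assoc, one_mul, sl2_mul_self, ← ht, smul_sub, smul_smul, Matrix.smul_mul]
    module
  rw [Matrix.SpecialLinearGroup.coe_pow, e5] at ha
  have := smul_zero_or_central hx (f := t ^ 4 - 3 * t ^ 2 + 1) (g := a + (t ^ 3 - 2 * t)) (by
    rw [add_smul a, ← ha, sub_add_cancel])
  have key : ∀ t : K, t ^ 4 - 3 * t ^ 2 + 1 = 0 → t = 4 ∨ t = -4 ∨ t = 8 ∨ t = -8 := by decide +kernel
  exact key _ this

theorem trace_conjSL (g : GL (Fin 2) K) (x : SL2) :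
    Matrix.trace (conjSL g x : M2) = Matrix.trace (x : M2) := by
  rw [coe_conjSL, Matrix.trace_units_conj]

theorem trace_sign {x y : SL2} (h : (x : PSL2) = y) :
    Matrix.trace (y : M2) = Matrix.trace (x : M2) ∨ Matrix.trace (y : M2) = -Matrix.trace (x : M2) := by
  obtain ⟨c, hc⟩ := (mk_eq_mk_iff x y).1 h
  have hd := congrArg Matrix.det hc
  rw [Matrix.det_smul, x.det_coe, y.det_coe, mul_one, Fintype.card_fin] at hd
  have key : ∀ c : K, 1 = c ^ 2 → c = 1 ∨ c = -1 := by decide +kernel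
  rcases key c hd with rfl | rfl
  · left; rw [hc, one_smul]
  · right; rw [hc, neg_smul, one_smul, Matrix.trace_neg]

theorem exists_lift (y : PSL2) (t : K)
    (h : ∀ x : SL2, (x : PSL2) = y → Matrix.trace (x : M2) = t ∨ Matrix.trace (x : M2) = -t) :
    ∃ x : SL2, (x : PSL2) = y ∧ Matrix.trace (x : M2) = t := by
  obtain ⟨x, rfl⟩ := QuotientGroup.mk_surjective y
  rcases h x rfl with h | h
  · exact ⟨x, rfl, h⟩
  · refine ⟨-x, (mk_eq_mk_iff _ _).2 ⟨-1, ?_⟩, ?_⟩
    · rw [Matrix.SpecialLinearGroup.coe_neg]; simp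
    · rw [Matrix.SpecialLinearGroup.coe_neg, Matrix.trace_neg, h, neg_neg]

theorem torus_key : ∀ a b : K, a * -a - b * (b - a - 8) = 1 → ∃ u v : K,
    u * (u + v) + v * v ≠ 0 ∧ -v * 9 = a * u + b * v ∧ u * 6 = a * -v + b * (u + v) ∧
      (u + v) * 9 = (b - a - 8) * u + -a * v ∧ v * 6 = (b - a - 8) * -v + -a * (u + v) := by
  decide +kernel

/-- Pairs with traces 0, 1 and product trace 8 are conjugate to `(W0, X0)`. -/
theorem pair_std {W X : SL2} (hW : Matrix.trace (W : M2) = 0) (hX : Matrix.trace (X : M2) = 1)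
    (hWX : Matrix.trace ((W * X : SL2) : M2) = 8) :
    ∃ g : GL (Fin 2) K, conjSL g W0 = W ∧ conjSL g X0 = X := by
  have hd := Matrix.det_fin_two (X : M2)
  rw [X.det_coe] at hd
  rw [Matrix.trace_fin_two] at hX
  have hx10 : (X : M2) 1 0 ≠ 0 := fun h => by
    have key : ∀ a : K, 1 ≠ a * (1 - a) := by decide +kernel
    refine key ((X : M2) 0 0) ?_
    rw [h, mul_zero, sub_zero] at hd
    linear_combination hd + (X : M2) 0 0 * hX
  let P : GL (Fin 2) K := Matrix.GeneralLinearGroup.mkOfDetNeZero !![1, (X : M2) 0 0; 0, (X : M2) 1 0]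
    (by rw [Matrix.det_fin_two_of]; simpa using hx10)
  have hP : (P : M2) = !![1, (X : M2) 0 0; 0, (X : M2) 1 0] := rfl
  have hPX : conjSL P X0 = X := by
    apply Subtype.ext
    rw [coe_conjSL]
    have : (P : M2) * (X0 : M2) = (X : M2) * (P : M2) := by
      rw [hP]
      ext i j
      fin_cases i <;> fin_cases j <;> simp [X0, mk2, Matrix.mul_apply, Fin.sum_univ_two]
      · linear_combination -hd - (X : M2) 0 0 * hX
      · linear_combination -(X : M2) 1 0 * hX
    rw [this, Matrix.mul_assoc, ← Units.val_mul, mul_inv_cancel, Units.val_one, Matrix.mul_one]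
  set W' := conjSL P⁻¹ W with hW'
  have hX' : conjSL P⁻¹ X = X0 := by
    conv_lhs => rw [← hPX]
    rw [← MulAut.mul_apply, ← map_mul, inv_mul_cancel, map_one, MulAut.one_apply]
  have h1 : Matrix.trace (W' : M2) = 0 := by rw [hW', trace_conjSL, hW]
  have h2 : Matrix.trace ((W' * X0 : SL2) : M2) = 8 := by
    rw [hW', ← hX', ← map_mul, trace_conjSL, hWX]
  have h3 := Matrix.det_fin_two (W' : M2)
  rw [W'.det_coe] at h3
  rw [trace_mul] at h2
  rw [Matrix.trace_fin_two] at h1
  simp [X0, mk2] at h2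
  have h11 : (W' : M2) 1 1 = -(W' : M2) 0 0 := by linear_combination h1
  rw [h11] at h2 h3
  have hc : (W' : M2) 1 0 = (W' : M2) 0 1 - (W' : M2) 0 0 - 8 := by linear_combination -h2
  rw [hc] at h3
  obtain ⟨u, v, huv, e1, e2, e3, e4⟩ := torus_key _ _ h3.symm
  let C : GL (Fin 2) K := Matrix.GeneralLinearGroup.mkOfDetNeZero !![u, -v; v, u + v]
    (by rw [Matrix.det_fin_two_of]; simpa [neg_mul] using huv)
  have hC : (C : M2) = !![u, -v; v, u + v] := rfl
  have hCX : conjSL C X0 = X0 := by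
    apply Subtype.ext
    rw [coe_conjSL]
    have : (C : M2) * (X0 : M2) = (X0 : M2) * (C : M2) := by
      rw [hC]
      ext i j
      fin_cases i <;> fin_cases j <;> simp [X0, mk2, Matrix.mul_apply, Fin.sum_univ_two] <;> ring
    rw [this, Matrix.mul_assoc, ← Units.val_mul, mul_inv_cancel, Units.val_one, Matrix.mul_one]
  have hCW : conjSL C W0 = W' := by
    apply Subtype.ext
    rw [coe_conjSL]
    have : (C : M2) * (W0 : M2) = (W' : M2) * (C : M2) := by
      rw [hC]
      ext i j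
      fin_cases i <;> fin_cases j <;> simp [W0, mk2, Matrix.mul_apply, Fin.sum_univ_two, h11, hc]
      · linear_combination e1
      · linear_combination e2
      · linear_combination e3
      · linear_combination e4
    rw [this, Matrix.mul_assoc, ← Units.val_mul, mul_inv_cancel, Units.val_one, Matrix.mul_one]
  refine ⟨P * C, ?_, ?_⟩
  · rw [map_mul, MulAut.mul_apply, hCW, hW', ← MulAut.mul_apply, ← map_mul, mul_inv_cancel, map_one, MulAut.one_apply]
  · rw [map_mul, MulAut.mul_apply, hCX, hPX]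

theorem fix_key : ∀ p r : K, (p * 0 + -r * 9 = 0 * p + 6 * r) → (p * 6 + -r * 0 = 0 * -r + 6 * (p + r)) →
    r = 0 := by
  decide +kernel

/-- Only scalars fix both generators projectively. -/
theorem det_square_of_fix {g : GL (Fin 2) K} (hw : conjAut g w0 = w0) (hx : conjAut g x0 = x0) :
    ∃ r : K, (g : M2).det = r * r := by
  obtain ⟨c, hc⟩ := (mk_eq_mk_iff W0 (conjSL g W0)).1 hw.symm
  obtain ⟨d, hd⟩ := (mk_eq_mk_iff X0 (conjSL g X0)).1 hx.symm
  have hX0 : Matrix.trace (X0 : M2) = 1 := by decide +kernel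
  have hWX0 : Matrix.trace ((W0 : M2) * (X0 : M2)) = 8 := by decide +kernel
  have hd1 : d = 1 := by
    have := congrArg Matrix.trace hd
    rw [trace_conjSL, Matrix.trace_smul, hX0, smul_eq_mul, mul_one] at this
    exact this.symm
  subst hd1
  rw [one_smul] at hd
  have hc1 : c = 1 := by
    have h := trace_conjSL g (W0 * X0)
    rw [map_mul, Matrix.SpecialLinearGroup.coe_mul, Matrix.SpecialLinearGroup.coe_mul, hc, hd, Matrix.smul_mul,
      Matrix.trace_smul, hWX0, smul_eq_mul] at h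
    have key : ∀ c : K, c * 8 = 8 → c = 1 := by decide +kernel
    exact key c h
  subst hc1
  rw [one_smul] at hc
  have hcommX : (g : M2) * (X0 : M2) = (X0 : M2) * (g : M2) := by
    rw [coe_conjSL] at hd
    calc (g : M2) * (X0 : M2) = (g : M2) * (X0 : M2) * ((g⁻¹ : GL (Fin 2) K) : M2) * (g : M2) := by
          rw [Matrix.mul_assoc _ _ (g : M2), ← Units.val_mul, inv_mul_cancel, Units.val_one, Matrix.mul_one]
      _ = _ := by rw [hd]
  have hcommW : (g : M2) * (W0 : M2) = (W0 : M2) * (g : M2) := by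
    rw [coe_conjSL] at hc
    calc (g : M2) * (W0 : M2) = (g : M2) * (W0 : M2) * ((g⁻¹ : GL (Fin 2) K) : M2) * (g : M2) := by
          rw [Matrix.mul_assoc _ _ (g : M2), ← Units.val_mul, inv_mul_cancel, Units.val_one, Matrix.mul_one]
      _ = _ := by rw [hc]
  have x00 := congrFun (congrFun hcommX 0) 0
  have x10 := congrFun (congrFun hcommX 1) 0
  simp [X0, mk2, Matrix.mul_apply, Fin.sum_univ_two] at x00 x10
  have h01 : (g : M2) 0 1 = -(g : M2) 1 0 := by linear_combination x00
  have h11 : (g : M2) 1 1 = (g : M2) 0 0 + (g : M2) 1 0 := by linear_combination x10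
  have w00 := congrFun (congrFun hcommW 0) 0
  have w01 := congrFun (congrFun hcommW 0) 1
  simp [W0, mk2, Matrix.mul_apply, Fin.sum_univ_two, h01, h11] at w00 w01
  have hr := fix_key ((g : M2) 0 0) ((g : M2) 1 0) (by linear_combination w00) (by linear_combination w01)
  refine ⟨(g : M2) 0 0, ?_⟩
  rw [Matrix.det_fin_two, h01, h11, hr]
  ring

end Cfsg.Agent.Lib.PSL11
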