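import Mathlib

/-!
A simple group of order 660 is doubly transitive on the cosets of a simple subgroup of order 60, when its elements
of order 3 have small normalisers.
-/

set_option autoImplicit false

namespace Cfsg.Agent.Lib.PSL11

open MulAction

variable {G : Type*} [Group G] [Finite G]

theorem index_ge_five {A : Type*} [Group A] [Finite A] [IsSimpleGroup A] (hA : Nat.card A = 60) (L : Subgroup A)
    (hL : L ≠ ⊤) : 5 ≤ L.index := by
  classical
  haveI : Fintype (A ⧸ L) := Fintype.ofFinite _
  have hn : L.normalCore = ⊥ :=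
    (IsSimpleGroup.eq_bot_or_eq_top_of_normal _ (Subgroup.normalCore_normal L)).resolve_right fun h =>
      hL (top_unique (h ▸ Subgroup.normalCore_le L))
  have hinj : Function.Injective (toPermHom A (A ⧸ L)) := by
    rw [← MonoidHom.ker_eq_bot_iff, ← Subgroup.normalCore_eq_ker, hn]
  have h := Subgroup.card_dvd_of_injective _ hinj
  rw [Nat.card_perm, hA] at h
  rw [Subgroup.index_eq_card]
  by_contra hlt
  rw [not_le] at hlt
  interval_cases hc : Nat.card (A ⧸ L) <;> norm_num [Nat.factorial] at h

theorem card_normalizer_dvd_twelve (hG : Nat.card G = 660) (h15 : ∀ g : G, orderOf g ≠ 15 ∧ orderOf g ≠ 33)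
    (Q : Subgroup G) (hQ : Nat.card Q = 3) :
    Nat.card (Subgroup.normalizer (Q : Set G)) ≤ 12 := by
  set N := Subgroup.normalizer (Q : Set G)
  have hsmall : ∀ r : ℕ, r.Prime → 4 < r → r ∣ Nat.card N → r ≠ 5 ∧ r ≠ 11 := by
    intro r hr hr4 hd
    haveI : Fact r.Prime := ⟨hr⟩
    obtain ⟨⟨y, hyN⟩, hy⟩ := exists_prime_orderOf_dvd_card' r hd
    rw [Subgroup.orderOf_mk] at hy
    haveI : Fact (Nat.Prime 3) := ⟨Nat.prime_three⟩
    obtain ⟨⟨x, hxQ⟩, hx⟩ := exists_prime_orderOf_dvd_card' (G := Q) 3 (hQ ▸ dvd_rfl)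
    rw [Subgroup.orderOf_mk] at hx
    have hzp : Subgroup.zpowers x = Q := Subgroup.eq_of_le_of_card_ge (Subgroup.zpowers_le.2 hxQ)
      (by rw [hQ, Nat.card_zpowers, hx])
    have hc : y * x * y⁻¹ = x ∨ y * x * y⁻¹ = x⁻¹ := by
      have hm : y * x * y⁻¹ ∈ Subgroup.zpowers x := hzp.symm ▸ (Subgroup.mem_normalizer_iff.1 hyN x).1 hxQ
      obtain ⟨i, hi⟩ := Subgroup.mem_zpowers_iff.1 hm
      have e : x ^ i = x ^ (i % 3) := by rw [← zpow_mod_orderOf x i, hx]; rfl
      rw [e] at hi
      rcases (show i % 3 = 0 ∨ i % 3 = 1 ∨ i % 3 = 2 by omega) with h | h | h <;> rw [h] at hi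
      · exfalso
        rw [zpow_zero] at hi
        have : x = 1 := by
          have h' := congrArg (fun z => y⁻¹ * z * y) hi
          simp [mul_assoc] at h'
          exact h'.symm
        rw [this, orderOf_one] at hx
        omega
      · left; rw [← hi, zpow_one]
      · right
        rw [← hi, eq_inv_iff_mul_eq_one, ← zpow_add_one, show (2 + 1 : ℤ) = ((3 : ℕ) : ℤ) by norm_num, zpow_natCast,
          ← hx, pow_orderOf_eq_one]
    have hcomm : y * x = x * y := by
      rcases hc with h | h
      · exact mul_inv_eq_iff_eq_mul.1 h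
      · exfalso
        have hk : ∀ k : ℕ, y ^ k * x * (y ^ k)⁻¹ = x ∨ y ^ k * x * (y ^ k)⁻¹ = x⁻¹ := fun k => by
          induction k with
          | zero => simp
          | succ k ih =>
            rw [pow_succ', mul_inv_rev, show y * y ^ k * x * ((y ^ k)⁻¹ * y⁻¹) = y * (y ^ k * x * (y ^ k)⁻¹) * y⁻¹ by
              group]
            rcases ih with e | e <;> rw [e]
            · exact Or.inr h
            · left
              rw [show y * x⁻¹ * y⁻¹ = (y * x * y⁻¹)⁻¹ by group, h, inv_inv]
        have h2 : ∀ k : ℕ, y ^ (2 * k) * x * (y ^ (2 * k))⁻¹ = x := fun k => by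
          induction k with
          | zero => simp
          | succ k ih =>
            rw [show 2 * (k + 1) = 2 * k + 1 + 1 by ring, pow_succ', pow_succ', mul_inv_rev, mul_inv_rev,
              show y * (y * y ^ (2 * k)) * x * ((y ^ (2 * k))⁻¹ * y⁻¹ * y⁻¹) =
                y * (y * (y ^ (2 * k) * x * (y ^ (2 * k))⁻¹) * y⁻¹) * y⁻¹ by group,
              ih, h, show y * x⁻¹ * y⁻¹ = (y * x * y⁻¹)⁻¹ by group, h, inv_inv]
        obtain ⟨j, hj⟩ : ∃ j, r + 1 = 2 * j := ⟨(r + 1) / 2, by
          have := Nat.odd_iff.1 (hr.odd_of_ne_two (by omega)); omega⟩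
        have e := h2 j
        rw [← hj, pow_succ, ← hy, pow_orderOf_eq_one, one_mul, h] at e
        have : x ^ 2 = 1 := by
          rw [pow_two]
          nth_rewrite 2 [← e]
          exact mul_inv_cancel x
        have := Nat.le_of_dvd two_pos (orderOf_dvd_of_pow_eq_one this)
        omega
    have hord : orderOf (y * x) = r * 3 := by
      rw [← hy, ← hx]
      refine (show Commute y x from hcomm).orderOf_mul_eq_mul_orderOf_of_coprime ?_
      rw [hy, hx]
      exact (Nat.coprime_primes hr Nat.prime_three).2 (by omega)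
    exact ⟨fun e => (h15 _).1 (by rw [hord, e]), fun e => (h15 _).2 (by rw [hord, e])⟩
  have hd : Nat.card N ∣ 660 := hG ▸ N.card_subgroup_dvd_card
  have h5 : ¬ 5 ∣ Nat.card N := fun h => (hsmall 5 (by norm_num) (by norm_num) h).1 rfl
  have h11 : ¬ 11 ∣ Nat.card N := fun h => (hsmall 11 (by norm_num) (by norm_num) h).2 rfl
  have hdd : Nat.card N ∣ 12 :=
    Nat.Coprime.dvd_of_dvd_mul_right
      (Nat.Coprime.mul_right ((Nat.Prime.coprime_iff_not_dvd (by norm_num)).2 h5).symm
        ((Nat.Prime.coprime_iff_not_dvd (by norm_num)).2 h11).symm) (show Nat.card N ∣ 12 * (5 * 11) from hd)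
  exact Nat.le_of_dvd (by norm_num) hdd

/-- The criterion. -/
theorem two_pretransitive [IsSimpleGroup G] (hG : Nat.card G = 660) (h15 : ∀ g : G, orderOf g ≠ 15 ∧ orderOf g ≠ 33)
    (H : Subgroup G) [IsSimpleGroup H] (hH : Nat.card H = 60) :
    MulAction.IsMultiplyPretransitive G (G ⧸ H) 2 := by
  classical
  have hidx : H.index = 11 := by
    have := H.card_mul_index
    rw [hH, hG] at this
    omega
  set o : G ⧸ H := ((1 : G) : G ⧸ H) with ho
  have hstab : ∀ h : G, h ∈ H ↔ h • o = o := fun h => by
    rw [ho, MulAction.Quotient.smul_coe, QuotientGroup.eq, smul_eq_mul, mul_one, mul_one, inv_mem_iff]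
  have hcX : Nat.card (G ⧸ H) = 11 := by rw [← Subgroup.index_eq_card, hidx]
  -- orbit sizes of `H` away from the base point
  have horb : ∀ x : G ⧸ H, x ≠ o → (orbit H x).ncard = 5 ∨ 6 ≤ (orbit H x).ncard := by
    intro x hx
    rw [← index_stabilizer]
    have := index_ge_five hH (stabilizer H x) fun htop => by
      obtain ⟨g, rfl⟩ := QuotientGroup.mk_surjective x
      have hN : ∀ h ∈ H, g⁻¹ * h * g ∈ H := fun h hh => by
        have e : (⟨h, hh⟩ : H) ∈ stabilizer H ((g : G) : G ⧸ H) := htop ▸ Subgroup.mem_top _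
        rw [mem_stabilizer_iff] at e
        have e' : ((h * g : G) : G ⧸ H) = ((g : G) : G ⧸ H) := e
        rw [QuotientGroup.eq] at e'
        have := inv_mem e'
        simpa [mul_assoc] using this
      have hnorm : g⁻¹ ∈ Subgroup.normalizer (H : Set G) := by
        have hmap : H.map (MulAut.conj g⁻¹).toMonoidHom = H := by
          refine Subgroup.eq_of_le_of_card_ge ?_ (le_of_eq (Subgroup.card_map_of_injective (MulAut.conj g⁻¹).injective).symm)
          rintro _ ⟨h, hh, rfl⟩
          simpa [MulAut.conj_apply] using hN h hh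
        refine Subgroup.mem_normalizer_iff.2 fun h => ⟨fun hh => by simpa [MulAut.conj_apply] using hN h hh,
          fun hh => ?_⟩
        rw [← hmap] at hh
        obtain ⟨k, hk, hke⟩ := hh
        simp [MulAut.conj_apply] at hke
        simpa [hke] using hk
      have hNN : Subgroup.normalizer (H : Set G) = H := by
        refine le_antisymm (fun y hy => ?_) Subgroup.le_normalizer
        by_contra hyH
        have hlt : H < Subgroup.normalizer (H : Set G) := lt_of_le_of_ne Subgroup.le_normalizer fun e => hyH (e ▸ hy)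
        have htopN : Subgroup.normalizer (H : Set G) = ⊤ := by
          have h1 := Subgroup.relIndex_mul_index (Subgroup.le_normalizer (H := H))
          rw [hidx] at h1
          rcases (Nat.prime_iff.mp (show Nat.Prime 11 by norm_num)).irreducible.isUnit_or_isUnit h1.symm with e | e
          · exact absurd (Subgroup.relIndex_eq_one.1 (Nat.isUnit_iff.1 e)) hlt.not_ge
          · exact Subgroup.index_eq_one.1 (Nat.isUnit_iff.1 e)
        haveI : H.Normal := Subgroup.normalizer_eq_top_iff.1 htopN
        rcases IsSimpleGroup.eq_bot_or_eq_top_of_normal H inferInstance with e | e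
        · rw [e, Subgroup.card_bot] at hH; omega
        · rw [e, Subgroup.index_top] at hidx; omega
      rw [hNN] at hnorm
      refine hx ?_
      rw [ho, QuotientGroup.eq, mul_one]
      exact hnorm
    omega
  -- a Sylow 3-subgroup of `H` fixes at most two points
  haveI : Fact (Nat.Prime 3) := ⟨Nat.prime_three⟩
  obtain ⟨Q⟩ : Nonempty (Sylow 3 H) := inferInstance
  have hQ : Nat.card (Q : Subgroup H) = 3 := by
    rw [Q.card_eq_multiplicity, hH, show (60 : ℕ) = 3 * 20 by norm_num,
      Nat.factorization_mul (by norm_num) (by norm_num), Nat.Prime.factorization Nat.prime_three]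
    simp [Nat.factorization_eq_zero_of_not_dvd (show ¬ 3 ∣ 20 by norm_num)]
  set Q' : Subgroup G := (Q : Subgroup H).map H.subtype with hQ'
  have hQ'c : Nat.card Q' = 3 := by rw [hQ', Subgroup.card_map_of_injective H.subtype_injective, hQ]
  set N := Subgroup.normalizer (Q' : Set G) with hN
  have hfix : ∀ x : G ⧸ H, (∀ q ∈ Q', q • x = x) → x ∈ orbit N o := by
    intro x hx
    obtain ⟨g, rfl⟩ := QuotientGroup.mk_surjective x
    have hQg : ∀ q ∈ Q', g⁻¹ * q * g ∈ H := fun q hq => by
      have e : ((q * g : G) : G ⧸ H) = ((g : G) : G ⧸ H) := hx q hq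
      rw [QuotientGroup.eq] at e
      have := inv_mem e
      simpa [mul_assoc] using this
    set R : Subgroup H := (Q'.map (MulAut.conj g⁻¹).toMonoidHom).subgroupOf H with hR
    have hle : Q'.map (MulAut.conj g⁻¹).toMonoidHom ≤ H := by
      rintro _ ⟨q, hq, rfl⟩
      simpa [MulAut.conj_apply] using hQg q hq
    have hRc : Nat.card R = 3 := by
      rw [hR, Nat.card_congr (Subgroup.subgroupOfEquivOfLe hle).toEquiv,
        Subgroup.card_map_of_injective (MulAut.conj g⁻¹).injective, hQ'c]
    let R' : Sylow 3 H := Sylow.ofCard R (hRc.trans (hQ.symm.trans Q.card_eq_multiplicity))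
    obtain ⟨h, hh⟩ := exists_smul_eq H R' Q
    have hn : ((h : G) * g⁻¹) ∈ N := by
      have hmem : ∀ q ∈ Q', (h : G) * g⁻¹ * q * ((h : G) * g⁻¹)⁻¹ ∈ Q' := by
        intro q hq
        have h1 : (⟨g⁻¹ * q * g, hQg q hq⟩ : H) ∈ R :=
          Subgroup.mem_subgroupOf.2 ⟨q, hq, by simp [MulAut.conj_apply]⟩
        have h2 : h * ⟨g⁻¹ * q * g, hQg q hq⟩ * h⁻¹ ∈ (Q : Subgroup H) := by
          rw [← hh, Sylow.coe_subgroup_smul]
          exact Subgroup.smul_mem_pointwise_smul _ (MulAut.conj h) R h1
        refine ⟨_, h2, ?_⟩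
        simp [mul_assoc]
      have hmap : Q'.map (MulAut.conj ((h : G) * g⁻¹)).toMonoidHom = Q' := by
        refine Subgroup.eq_of_le_of_card_ge ?_
          (le_of_eq (Subgroup.card_map_of_injective (MulAut.conj ((h : G) * g⁻¹)).injective).symm)
        rintro _ ⟨q, hq, rfl⟩
        exact hmem q hq
      refine Subgroup.mem_normalizer_iff.2 fun q => ⟨hmem q, fun hq => ?_⟩
      have h3 : MulAut.conj ((h : G) * g⁻¹) q ∈ Q'.map (MulAut.conj ((h : G) * g⁻¹)).toMonoidHom := hmap.symm ▸ hq
      obtain ⟨q', hq', e⟩ := h3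
      exact (MulAut.conj ((h : G) * g⁻¹)).injective e ▸ hq'
    refine ⟨⟨_, inv_mem hn⟩, ?_⟩
    show ((h : G) * g⁻¹)⁻¹ • o = _
    rw [mul_inv_rev, inv_inv, mul_smul, (hstab _).1 (inv_mem h.2), ho, MulAction.Quotient.smul_coe, smul_eq_mul, mul_one]
  have hN2 : (orbit N o).ncard ≤ 2 := by
    rw [← index_stabilizer]
    have h6 : 6 ≤ Nat.card (stabilizer N o) := by
      have hn3 : Nat.card (Sylow 3 H) = (Subgroup.normalizer ((Q : Subgroup H) : Set H)).index :=
        Q.card_eq_index_normalizer
      have hN3 : Nat.card (Sylow 3 H) ≤ 10 := by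
        have h1 := card_sylow_modEq_one 3 H
        have h2 := Q.card_dvd_index
        have h3 : (Q : Subgroup H).index = 20 := by
          have := (Q : Subgroup H).card_mul_index
          rw [hQ, hH] at this
          omega
        rw [h3] at h2
        have h4 := Nat.le_of_dvd (by norm_num) h2
        by_contra hlt
        rw [not_le] at hlt
        interval_cases hc : Nat.card (Sylow 3 H) <;> first | omega | (norm_num [Nat.ModEq] at h1) | (norm_num at h2)
      have h6' : 6 ≤ Nat.card (Subgroup.normalizer ((Q : Subgroup H) : Set H)) := by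
        have := (Subgroup.normalizer ((Q : Subgroup H) : Set H)).card_mul_index
        rw [← hn3, hH] at this
        nlinarith
      refine h6'.trans (Nat.card_le_card_of_injective
        (fun n => (⟨⟨(n : H), ?_⟩, ?_⟩ : stabilizer N o)) fun a b hab => ?_)
      · refine Subgroup.mem_normalizer_iff.2 fun q => ?_
        constructor
        · rintro ⟨q, hq, rfl⟩
          exact ⟨n * q * n⁻¹, (Subgroup.mem_normalizer_iff.1 n.2 q).1 hq, by simp⟩
        · rintro ⟨q', hq', e⟩
          refine ⟨(n : H)⁻¹ * q' * n, ?_, ?_⟩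
          · have := (Subgroup.mem_normalizer_iff.1 n.2 ((n : H)⁻¹ * q' * n)).2 (by
            rw [show (n : H) * ((n : H)⁻¹ * q' * n) * (n : H)⁻¹ = q' by group]
            exact hq')
            exact this
          · simp only [Subgroup.coe_subtype] at e
            simp [e, mul_assoc]
      · exact (hstab _).1 (n : H).2
      · exact Subtype.ext (Subtype.ext (congrArg (fun z : stabilizer N o => ((z : N) : G)) hab :))
    have h12 := card_normalizer_dvd_twelve hG h15 Q' hQ'c
    rw [← hN] at h12
    have := (stabilizer N o).card_mul_index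
    nlinarith
  -- transitivity away from the base point
  have htrans : ∀ x y : G ⧸ H, x ≠ o → y ≠ o → y ∈ orbit H x := by
    intro x y hx hy
    by_contra hyx
    have hdisj : Disjoint (orbit H x) (orbit H y) := by
      refine Set.disjoint_left.2 fun z hzx hzy => hyx ?_
      rw [← orbit_eq_iff.2 hzx]
      exact mem_orbit_symm.1 hzy
    have hsub : insert o (orbit H x ∪ orbit H y) ⊆ (Set.univ : Set (G ⧸ H)) := Set.subset_univ _
    have hnot : ∀ z : G ⧸ H, z ≠ o → o ∉ orbit H z := fun z hz h => hz (by
      obtain ⟨h', hh'⟩ := mem_orbit_symm.1 h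
      rw [← hh']
      exact (hstab _).1 h'.2)
    have hle := Set.ncard_le_ncard hsub
    rw [Set.ncard_insert_of_notMem (by simp [hnot x hx, hnot y hy]), Set.ncard_union_eq hdisj, Set.ncard_univ, hcX] at hle
    have h5x : (orbit H x).ncard = 5 := by rcases horb x hx with e | e <;> rcases horb y hy with e' | e' <;> omega
    have h5y : (orbit H y).ncard = 5 := by rcases horb x hx with e | e <;> rcases horb y hy with e' | e' <;> omega
    -- the Sylow subgroup fixes a point in each orbit
    have key : ∀ z : G ⧸ H, (orbit H z).ncard = 5 → ∃ w ∈ orbit H z, ∀ q ∈ Q', q • w = w := by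
      intro z hz
      have hidx5 : (stabilizer H z).index = 5 := by rw [index_stabilizer, hz]
      obtain ⟨P⟩ : Nonempty (Sylow 3 (stabilizer H z)) := inferInstance
      have hPc : Nat.card ((P : Subgroup _).map (stabilizer H z).subtype) = 3 := by
        rw [Subgroup.card_map_of_injective (stabilizer H z).subtype_injective, P.card_eq_multiplicity]
        have := (stabilizer H z).card_mul_index
        rw [hidx5, hH] at this
        rw [show Nat.card (stabilizer H z) = 3 * 4 by omega, Nat.factorization_mul (by norm_num) (by norm_num),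
          Nat.Prime.factorization Nat.prime_three]
        simp [Nat.factorization_eq_zero_of_not_dvd (show ¬ 3 ∣ 4 by norm_num)]
      let P' : Sylow 3 H := Sylow.ofCard ((P : Subgroup _).map (stabilizer H z).subtype)
        (hPc.trans (hQ.symm.trans Q.card_eq_multiplicity))
      obtain ⟨h, hh⟩ := exists_smul_eq H P' Q
      refine ⟨h • z, mem_orbit z h, ?_⟩
      rintro _ ⟨q, hq, rfl⟩
      have hq' : h⁻¹ * q * h ∈ (P' : Subgroup H) := by
        rw [← hh] at hq
        obtain ⟨p, hp, hpe⟩ := hq
        have hpe' : h * p * h⁻¹ = q := hpe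
        rw [← hpe', show h⁻¹ * (h * p * h⁻¹) * h = p by group]
        exact hp
      have h3 : h⁻¹ * q * h ∈ stabilizer H z := Subgroup.map_subtype_le _ hq'
      rw [mem_stabilizer_iff, mul_smul, mul_smul, inv_smul_eq_iff] at h3
      exact h3
    obtain ⟨u, hu, hu'⟩ := key x h5x
    obtain ⟨w, hw, hw'⟩ := key y h5y
    have huw : u ≠ w := fun e => Set.disjoint_left.1 hdisj hu (e ▸ hw)
    have hou : o ≠ u := fun e => hnot x hx (e ▸ hu)
    have how : o ≠ w := fun e => hnot y hy (e ▸ hw)
    have hfixo : ∀ q ∈ Q', q • o = o := fun q hq => (hstab q).1 (Subgroup.map_subtype_le _ hq)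
    have h3 := Set.ncard_le_ncard (show ({o, u, w} : Set (G ⧸ H)) ⊆ orbit N o by
      rintro z (rfl | rfl | rfl)
      exacts [hfix _ hfixo, hfix _ hu', hfix _ hw'])
    rw [Set.ncard_insert_of_notMem (by simp [hou, how]), Set.ncard_pair huw] at h3
    omega
  rw [MulAction.is_two_pretransitive_iff]
  intro a b c d hab hcd
  obtain ⟨g1, hg1⟩ := exists_smul_eq G a o
  obtain ⟨g2, hg2⟩ := exists_smul_eq G c o
  obtain ⟨h, hh⟩ := htrans (g1 • b) (g2 • d)
    (fun e => hab ((MulAction.injective g1) (hg1.trans e.symm)))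
    (fun e => hcd ((MulAction.injective g2) (hg2.trans e.symm)))
  refine ⟨g2⁻¹ * (h : G) * g1, ?_, ?_⟩
  · rw [mul_smul, mul_smul, hg1, (hstab _).1 h.2, inv_smul_eq_iff, hg2]
  · rw [mul_smul, mul_smul, inv_smul_eq_iff]
    exact hh

end Cfsg.Agent.Lib.PSL11
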