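import Cfsg.Agent.Lib.PSL11.Icosahedral
import Cfsg.Agent.Lib.PSL11.Transitive
import Cfsg.Agent.Lib.RecogThree.PSL2Orders
import Cfsg.Agent.Lib.Linear.Order
import Cfsg.Agent.Lib.Linear.Simple
import Cfsg.Agent.Lib.Linear.FamilyHom

/-!
The two classes of icosahedral subgroups of `PSL(2, 11)`, for any field with 11 elements.
-/

set_option autoImplicit false

namespace Cfsg.Agent.Lib.PSL11

open Cfsg.Agent.Lib
open scoped Pointwise

local notation "A5" => alternatingGroup (Fin 5)

variable {F : Type*} [Field F] [Fintype F]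

local notation "P" => Matrix.ProjectiveSpecialLinearGroup (Fin 2) F

theorem card_psl (hF : Fintype.card F = 11) : Nat.card P = 660 := by
  have := Linear.two_mul_card_PSL_two_of_odd (F := F) (by rw [hF]; decide)
  rw [hF] at this
  omega

theorem simple_psl (hF : Fintype.card F = 11) : IsSimpleGroup P :=
  Linear.isSimpleGroup_PSL le_rfl fun _ => by rw [Nat.card_eq_fintype_card, hF]; norm_num

theorem orders_psl (hF : Fintype.card F = 11) (g : P) : orderOf g ≠ 15 ∧ orderOf g ≠ 33 := by
  haveI : Fact (Nat.Prime 11) := ⟨by norm_num⟩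
  haveI : CharP F 11 := charP_of_card_eq_prime hF
  rcases RecogThree.PSL2Orders.orderOf_cases 11 g with h | h | h
  all_goals
    have hle := Nat.le_of_dvd (by simp [hF, RecogThree.PSL2Orders.dd]) h
    constructor <;> intro e <;> simp [hF, RecogThree.PSL2Orders.dd, e] at h hle

theorem card_icosahedral (L : Subgroup P) (hL : Nonempty (L ≃* A5)) : Nat.card L = 60 := by
  obtain ⟨e⟩ := hL
  rw [Nat.card_congr e.toEquiv, card_A5]

theorem index_icosahedral (hF : Fintype.card F = 11) (L : Subgroup P) (hL : Nonempty (L ≃* A5)) : L.index = 11 := by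
  have := L.card_mul_index
  rw [card_icosahedral L hL, card_psl hF] at this
  omega

theorem two_transitive (hF : Fintype.card F = 11) (L : Subgroup P) (hL : Nonempty (L ≃* A5)) :
    MulAction.IsMultiplyPretransitive P (P ⧸ L) 2 := by
  haveI := simple_psl hF
  haveI := alternatingGroup.isSimpleGroup_five
  haveI : IsSimpleGroup L := by
    obtain ⟨e⟩ := hL
    haveI : Nontrivial L := e.toEquiv.nontrivial
    exact IsSimpleGroup.isSimpleGroup_of_surjective e.symm.toMonoidHom e.symm.surjective
  exact two_pretransitive (card_psl hF) (orders_psl hF) L (card_icosahedral L hL)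

theorem mulAut_conj_map {G G' : Type*} [Group G] [Group G'] (e : G ≃* G') (g : G) (L : Subgroup G) :
    (MulAut.conj g • L).map e.toMonoidHom = MulAut.conj (e g) • L.map e.toMonoidHom := by
  show (L.map (MulAut.conj g).toMonoidHom).map e.toMonoidHom =
    (L.map e.toMonoidHom).map (MulAut.conj (e g)).toMonoidHom
  rw [Subgroup.map_map, Subgroup.map_map]
  congr 1
  ext x
  simp

theorem classes (hF : Fintype.card F = 11) :
    ∃ H K : Subgroup P, Nonempty (H ≃* A5) ∧ Nonempty (K ≃* A5) ∧ (∀ g : P, MulAut.conj g • H ≠ K) ∧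
      ∀ L : Subgroup P, Nonempty (L ≃* A5) → ∃ g : P, MulAut.conj g • L = H ∨ MulAut.conj g • L = K := by
  obtain ⟨e⟩ := Linear.nonempty_pslCongr_zmod (ι := Fin 2) (F := F) 11 hF
  have hm : ∀ L : Subgroup (Matrix.ProjectiveSpecialLinearGroup (Fin 2) (ZMod 11)), Nonempty (L ≃* A5) →
      Nonempty (L.map e.symm.toMonoidHom ≃* A5) := fun L ⟨f⟩ =>
    ⟨(L.equivMapOfInjective e.symm.toMonoidHom e.symm.injective).symm.trans f⟩
  refine ⟨(icosa 1).map e.symm.toMonoidHom, (icosa dd).map e.symm.toMonoidHom, hm _ (iso_icosa 1), hm _ (iso_icosa dd),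
    fun g h => not_conj (e g) ?_, fun L hL => ?_⟩
  · have h' := congrArg (fun S => S.map e.toMonoidHom) h
    simp only [mulAut_conj_map, Subgroup.map_map] at h'
    rw [show e.toMonoidHom.comp e.symm.toMonoidHom = MonoidHom.id _ by ext x; simp, Subgroup.map_id, Subgroup.map_id,
      icosa_one] at h'
    exact h'
  · obtain ⟨f⟩ := hL
    obtain ⟨y, hy⟩ := two_classes (L := L.map e.toMonoidHom)
      ⟨(L.equivMapOfInjective e.toMonoidHom e.injective).symm.trans f⟩
    refine ⟨(e.symm y)⁻¹, ?_⟩
    have back : ∀ S : Subgroup (Matrix.ProjectiveSpecialLinearGroup (Fin 2) (ZMod 11)),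
        MulAut.conj y • S = L.map e.toMonoidHom → MulAut.conj (e.symm y)⁻¹ • L = S.map e.symm.toMonoidHom := by
      intro S hS
      rw [map_inv, inv_smul_eq_iff, ← mulAut_conj_map, hS, Subgroup.map_map,
        show e.symm.toMonoidHom.comp e.toMonoidHom = MonoidHom.id _ by ext x; simp, Subgroup.map_id]
    rcases hy with h | h
    · left
      rw [back _ h, icosa_one]
    · exact Or.inr (back _ h)

theorem count (hF : Fintype.card F = 11) : Nat.card {H : Subgroup P // Nonempty (H ≃* A5)} = 22 := by
  classical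
  obtain ⟨H, K, hH, hK, hne, hall⟩ := classes hF
  haveI := simple_psl hF
  have key : ∀ L : Subgroup P, Nonempty (L ≃* A5) →
      (Set.range fun g : P => MulAut.conj g • L).ncard = 11 := by
    intro L hL
    rw [← index_icosahedral hF L hL]
    have hN : Subgroup.normalizer (L : Set P) = L := by
      rcases eq_or_lt_of_le (Subgroup.le_normalizer (H := L)) with e | e
      · exact e.symm
      exfalso
      have h1 := Subgroup.relIndex_mul_index (Subgroup.le_normalizer (H := L))
      rw [index_icosahedral hF L hL] at h1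
      rcases (Nat.prime_iff.mp (show Nat.Prime 11 by norm_num)).irreducible.isUnit_or_isUnit h1.symm with h | h
      · exact e.not_ge (Subgroup.relIndex_eq_one.1 (Nat.isUnit_iff.1 h))
      · haveI : L.Normal := Subgroup.normalizer_eq_top_iff.1 (Subgroup.index_eq_one.1 (Nat.isUnit_iff.1 h))
        have hc := card_icosahedral L hL
        rcases IsSimpleGroup.eq_bot_or_eq_top_of_normal L inferInstance with h' | h'
        · rw [h', Subgroup.card_bot] at hc; omega
        · rw [h', Subgroup.card_top, card_psl hF] at hc; omega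
    have hiff : ∀ a b : P, MulAut.conj a • L = MulAut.conj b • L ↔ a⁻¹ * b ∈ L := by
      intro a b
      rw [← inv_smul_eq_iff, ← map_inv, ← mul_smul, ← map_mul]
      conv_rhs => rw [← hN]
      rw [show b⁻¹ * a = (a⁻¹ * b)⁻¹ by group] at *
      constructor
      · intro h
        rw [← inv_mem_iff]
        refine Subgroup.mem_normalizer_iff.2 fun x => ?_
        have hx := SetLike.ext_iff.1 h ((a⁻¹ * b)⁻¹ * x * ((a⁻¹ * b)⁻¹)⁻¹)
        rw [Subgroup.mem_pointwise_smul_iff_inv_smul_mem] at hx
        simp [mul_assoc] at hx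
        simpa [mul_assoc] using hx
      · intro h
        refine Subgroup.ext fun x => ?_
        rw [Subgroup.mem_pointwise_smul_iff_inv_smul_mem]
        simpa [mul_assoc] using (Subgroup.mem_normalizer_iff.1 h x).symm
    rw [Subgroup.index_eq_card]
    refine (Nat.card_congr (Equiv.ofBijective (Quotient.lift (fun g : P => (⟨MulAut.conj g • L, g, rfl⟩ :
      Set.range fun g : P => MulAut.conj g • L)) fun a b h => ?_) ⟨?_, ?_⟩)).symm
    · exact Subtype.ext ((hiff a b).2 (QuotientGroup.leftRel_apply.1 h))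
    · intro x y
      refine Quotient.inductionOn₂ x y fun a b h => ?_
      exact Quotient.sound (QuotientGroup.leftRel_apply.2 ((hiff a b).1 (congrArg Subtype.val h)))
    · rintro ⟨_, g, rfl⟩
      exact ⟨Quotient.mk'' g, rfl⟩
  have hset : {L : Subgroup P | Nonempty (L ≃* A5)} =
      (Set.range fun g : P => MulAut.conj g • H) ∪ Set.range fun g : P => MulAut.conj g • K := by
    ext L
    constructor
    · intro hL
      obtain ⟨g, h | h⟩ := hall L hL
      · exact Or.inl ⟨g⁻¹, by show MulAut.conj g⁻¹ • H = L; rw [← h, map_inv, inv_smul_smul]⟩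
      · exact Or.inr ⟨g⁻¹, by show MulAut.conj g⁻¹ • K = L; rw [← h, map_inv, inv_smul_smul]⟩
    · rintro (⟨g, rfl⟩ | ⟨g, rfl⟩)
      · obtain ⟨f⟩ := hH
        exact ⟨(H.equivSMul (MulAut.conj g)).symm.trans f⟩
      · obtain ⟨f⟩ := hK
        exact ⟨(K.equivSMul (MulAut.conj g)).symm.trans f⟩
  have hdisj : Disjoint (Set.range fun g : P => MulAut.conj g • H) (Set.range fun g : P => MulAut.conj g • K) := by
    refine Set.disjoint_left.2 ?_
    rintro _ ⟨g, rfl⟩ ⟨g', h⟩
    refine hne (g'⁻¹ * g) ?_
    have h : MulAut.conj g' • K = MulAut.conj g • H := h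
    rw [map_mul, mul_smul, ← h, map_inv, inv_smul_smul]
  show Nat.card {L : Subgroup P | Nonempty (L ≃* A5)} = 22
  rw [Nat.card_coe_set_eq, hset, Set.ncard_union_eq hdisj, key H hH, key K hK]

end Cfsg.Agent.Lib.PSL11
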